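import Mathlib
import Groth.Prelude.Def_WittGrp

/-!
# Ring-level lemmas on truncated Witt vectors: padding, shift decomposition, `V F = p`
-/

namespace Groth.Agent.Lib.Helper6.Witt

open WittGrp

variable (p : ℕ) [hp : Fact p.Prime] {A A' : Type*} [CommRing A] [CommRing A']

section Pad

variable {n m : ℕ}

/-- Zero padding `W_n(A) → W_m(A)` (not additive). -/
def padW (h : n ≤ m) (x : TruncatedWittVector p n A) : TruncatedWittVector p m A :=
  TruncatedWittVector.mk p fun i => if hi : (i : ℕ) < n then x.coeff ⟨i, hi⟩ else 0

omit hp in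
theorem coeff_padW (h : n ≤ m) (x : TruncatedWittVector p n A) (i : Fin m) :
    (padW p h x).coeff i = if hi : (i : ℕ) < n then x.coeff ⟨i, hi⟩ else 0 :=
  TruncatedWittVector.coeff_mk _ _

theorem truncate_padW (h : n ≤ m) (x : TruncatedWittVector p n A) :
    TruncatedWittVector.truncate h (padW p h x) = x := by
  refine TruncatedWittVector.ext fun i => ?_
  rw [TruncatedWittVector.coeff_truncate, coeff_padW]
  simp

theorem padW_zero (h : n ≤ m) : padW p h (0 : TruncatedWittVector p n A) = 0 := by
  refine TruncatedWittVector.ext fun i => ?_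
  rw [coeff_padW, TruncatedWittVector.coeff_zero]
  split_ifs
  · exact TruncatedWittVector.coeff_zero _ _ _ _
  · rfl

theorem truncMap_padW (h : n ≤ m) (f : A →+* A') (x : TruncatedWittVector p n A) :
    truncMap p m f (padW p h x) = padW p h (truncMap p n f x) := by
  refine TruncatedWittVector.ext fun i => ?_
  rw [coeff_truncMap, coeff_padW, coeff_padW]
  split_ifs
  · rw [coeff_truncMap]
  · exact map_zero f

end Pad

section Shift

variable {M b : ℕ}

/-- A truncated Witt vector whose first `M - b` components vanish is a shift. -/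
theorem exists_eq_shift (h : b ≤ M) (y : TruncatedWittVector p M A)
    (hy : ∀ i : Fin M, (i : ℕ) < M - b → y.coeff i = 0) :
    ∃ z : TruncatedWittVector p b A, y = shift p h z := by
  refine ⟨TruncatedWittVector.mk p fun i : Fin b => y.coeff ⟨(M - b) + i, by omega⟩, ?_⟩
  refine TruncatedWittVector.ext fun j => ?_
  rw [coeff_shift]
  split_ifs with hj
  · rw [TruncatedWittVector.coeff_mk]
    congr 1
    apply Fin.ext
    simp only
    omega
  · exact hy j (by omega)

theorem shift_injective (h : b ≤ M) :
    Function.Injective (shift p h : TruncatedWittVector p b A → TruncatedWittVector p M A) := by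
  intro z z' hzz'
  refine TruncatedWittVector.ext fun i => ?_
  have h1 := congrArg (fun w => w.coeff ⟨(M - b) + i, by omega⟩) hzz'
  simp only [coeff_shift] at h1
  rw [dif_pos (by simp), dif_pos (by simp)] at h1
  convert h1 using 2 <;> (apply Fin.ext; simp)

/-- The first `M - b` components of a shift vanish. -/
theorem truncate_shift_eq_zero {c : ℕ} (h : b ≤ M) (hc : c ≤ M) (hcb : c ≤ M - b)
    (z : TruncatedWittVector p b A) :
    TruncatedWittVector.truncate hc (shift p h z) = 0 := by
  refine TruncatedWittVector.ext fun i => ?_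
  rw [TruncatedWittVector.coeff_truncate, coeff_shift, TruncatedWittVector.coeff_zero]
  rw [dif_neg]
  simp only [Fin.val_castLE]
  omega

end Shift

section VF

/-- `V^d F x = p • w` for some `w`, when `d ≥ 1` and `p = 0` in `A`. -/
theorem exists_shift_frob_eq_nsmul {a M : ℕ} (h : a ≤ M) (hlt : a < M) (hpA : (p : A) = 0)
    (x : TruncatedWittVector p a A) :
    ∃ w : TruncatedWittVector p M A, shift p h (frob p a hpA x) = p • w := by
  rcases subsingleton_or_nontrivial A with hA | hA
  · exact ⟨0, TruncatedWittVector.ext fun i => Subsingleton.elim _ _⟩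
  · have : CharP A p := (CharP.charP_iff_prime_eq_zero hp.out).mpr hpA
    obtain ⟨X, rfl⟩ := WittVector.truncate_surjective p a A x
    obtain ⟨d, hd⟩ : ∃ d, M - a = d + 1 := ⟨M - a - 1, by omega⟩
    refine ⟨WittVector.truncate M (WittVector.verschiebung^[d] X), ?_⟩
    rw [frob_truncate, shift_truncate, hd, Function.iterate_succ_apply,
      WittVector.verschiebung_frobenius, mul_comm, ← nsmul_eq_mul, iterate_map_nsmul, map_nsmul]

/-- `p` kills `W_1(A)` when `p = 0` in `A`. -/
theorem nsmul_eq_zero_of_one (hpA : (p : A) = 0) (w : TruncatedWittVector p 1 A) :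
    p • w = 0 := by
  rcases subsingleton_or_nontrivial A with hA | hA
  · exact TruncatedWittVector.ext fun i => Subsingleton.elim _ _
  · have : CharP A p := (CharP.charP_iff_prime_eq_zero hp.out).mpr hpA
    obtain ⟨X, rfl⟩ := WittVector.truncate_surjective p 1 A w
    rw [← map_nsmul, nsmul_eq_mul, mul_comm, ← WittVector.verschiebung_frobenius]
    refine TruncatedWittVector.ext fun i => ?_
    rw [WittVector.coeff_truncate, TruncatedWittVector.coeff_zero]
    have hi : (i : ℕ) = 0 := by omega
    rw [hi]
    exact WittVector.verschiebung_coeff_zero _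

/-- Over a reduced ring of characteristic `p`, a `p`-torsion truncated Witt vector has only its
last component possibly nonzero. -/
theorem coeff_eq_zero_of_nsmul_eq_zero [IsReduced A] (hpA : (p : A) = 0) {M : ℕ}
    (u : TruncatedWittVector p M A) (hu : p • u = 0) (i : Fin M) (hi : (i : ℕ) + 1 < M) :
    u.coeff i = 0 := by
  rcases subsingleton_or_nontrivial A with hA | hA
  · exact Subsingleton.elim _ _
  · have : CharP A p := (CharP.charP_iff_prime_eq_zero hp.out).mpr hpA
    obtain ⟨U, rfl⟩ := WittVector.truncate_surjective p M A u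
    rw [← map_nsmul, nsmul_eq_mul, mul_comm, ← WittVector.verschiebung_frobenius] at hu
    have h1 := congrArg (fun w => w.coeff ⟨(i : ℕ) + 1, hi⟩) hu
    simp only [WittVector.coeff_truncate, TruncatedWittVector.coeff_zero] at h1
    rw [WittVector.verschiebung_coeff_succ, WittVector.coeff_frobenius_charP] at h1
    rw [WittVector.coeff_truncate]
    exact IsReduced.eq_zero _ ⟨p, h1⟩

end VF

end Groth.Agent.Lib.Helper6.Witt
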