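import Mathlib
import Groth.Prelude.Def_WittGrp
import Groth.Agent.Lib.Helper6.Witt.Ring

/-!
# Scheme-level lemmas on the Witt group schemes: points, padding section, `V` is mono
-/

universe u

open CategoryTheory CategoryTheory.Limits AlgebraicGeometry Opposite MonObj MonoidalCategory
  CartesianMonoidalCategory

namespace Groth.Agent.Lib.Helper6.Witt

open WittGrp

variable (p : ℕ) [hp : Fact p.Prime] {n m : ℕ} {S : Scheme.{u}}

/-- The point of `W_n` with given Witt vector of functions. -/
noncomputable def mkPt (T : Over S) (w : TruncatedWittVector p n Γ(T.left, ⊤)) : T ⟶ W p n S :=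
  (ptsMul p T).symm (Multiplicative.ofAdd w)

@[simp]
theorem pts_mkPt (T : Over S) (w : TruncatedWittVector p n Γ(T.left, ⊤)) :
    pts p T (Additive.ofMul (mkPt p T w)) = w := by
  change Multiplicative.toAdd ((ptsMul p T) ((ptsMul p T).symm (Multiplicative.ofAdd w))) = w
  rw [MulEquiv.apply_symm_apply, toAdd_ofAdd]

theorem pts_ext {T : Over S} {x y : T ⟶ W p n S}
    (h : pts p T (Additive.ofMul x) = pts p T (Additive.ofMul y)) : x = y :=
  pts_injective p T h

theorem pts_pow {T : Over S} (x : T ⟶ W p n S) (k : ℕ) :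
    pts p T (Additive.ofMul (x ^ k)) = k • pts p T (Additive.ofMul x) := by
  rw [ofMul_pow, map_nsmul]

/-- The zero-padding section `W_n → W_m` of the restriction (not a homomorphism). -/
noncomputable def pad (S : Scheme.{u}) (h : n ≤ m) : W p n S ⟶ W p m S :=
  mkPt p (W p n S) (padW p h (pts p (W p n S) (Additive.ofMul (𝟙 _))))

theorem pts_pad (h : n ≤ m) {T : Over S} (x : T ⟶ W p n S) :
    pts p T (Additive.ofMul (x ≫ pad p S h)) = padW p h (pts p T (Additive.ofMul x)) := by
  rw [pts_comp, pad, pts_mkPt, truncMap_padW, ← pts_comp, Category.comp_id]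

theorem pad_R (h : n ≤ m) : pad p S h ≫ R p S h = 𝟙 _ := by
  apply pts_ext
  rw [pts_R, ← Category.id_comp (pad p S h), pts_pad, truncate_padW]

theorem one_pad (h : n ≤ m) {T : Over S} : (1 : T ⟶ W p n S) ≫ pad p S h = 1 := by
  apply pts_ext
  rw [pts_pad, pts_one, pts_one, padW_zero]

/-- `V` is a monomorphism. -/
theorem V_cancel (h : n ≤ m) {T : Over S} {x y : T ⟶ W p n S}
    (hxy : x ≫ V p S h = y ≫ V p S h) : x = y := by
  apply pts_ext
  apply shift_injective p h
  rw [← pts_V, ← pts_V, hxy]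

/-- Every point of `W_1` is killed by `p` when `p = 0` on the base. -/
theorem pow_p_eq_one (hpS : (p : Γ(S, ⊤)) = 0) {T : Over S} (x : T ⟶ W p 1 S) : x ^ p = 1 := by
  apply pts_ext
  rw [pts_pow, pts_one]
  exact nsmul_eq_zero_of_one p (natCast_eq_zero_of_over p hpS T) _

/-- Decomposition of a point: `x = pad (R x) * V z`. -/
theorem exists_eq_pad_mul_V {a b M : ℕ} (ha : a ≤ M) (hb : b ≤ M) (hab : a = M - b)
    {T : Over S} (x : T ⟶ W p M S) :
    ∃ z : T ⟶ W p b S, x = (x ≫ R p S ha ≫ pad p S ha) * (z ≫ V p S hb) := by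
  have key : ∃ z : TruncatedWittVector p b Γ(T.left, ⊤),
      pts p T (Additive.ofMul x) - pts p T (Additive.ofMul (x ≫ R p S ha ≫ pad p S ha)) =
        shift p hb z := by
    apply exists_eq_shift
    intro i hi
    have hi' : (i : ℕ) < a := by omega
    have h1 : TruncatedWittVector.truncate ha (pts p T (Additive.ofMul x) -
        pts p T (Additive.ofMul (x ≫ R p S ha ≫ pad p S ha))) = 0 := by
      rw [map_sub, ← Category.assoc, pts_pad, truncate_padW, pts_R, sub_self]
    have h2 := congrArg (fun w => w.coeff ⟨i, hi'⟩) h1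
    simp only [TruncatedWittVector.coeff_truncate, TruncatedWittVector.coeff_zero] at h2
    exact h2
  obtain ⟨z, hz⟩ := key
  refine ⟨mkPt p T z, ?_⟩
  apply pts_ext
  rw [pts_mul, pts_V, pts_mkPt, ← hz]
  abel

end Groth.Agent.Lib.Helper6.Witt
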