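import Mathlib
import Groth.Prelude.Def_WittGrp
import Groth.Prelude.Def_AlgGrp
import Groth.Agent.Lib.Helper6.Witt.Scheme

/-!
# `W_{n+m}` is the product of `W_n` and `W_m` as a scheme; strict exactness of
`0 → W_m → W_{n+m} → W_n → 0`
-/

universe u

open CategoryTheory CategoryTheory.Limits AlgebraicGeometry Opposite MonObj MonoidalCategory
  CartesianMonoidalCategory

namespace Groth.Agent.Lib.Helper6.Witt

open WittGrp

variable (p : ℕ) [hp : Fact p.Prime]

section RingLevel

variable {n m : ℕ} {R R' : Type*} [CommRing R] [CommRing R']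

/-- The last `m` components of a Witt vector of length `n + m`. -/
def tailG (w : TruncatedWittVector p (n + m) R) : TruncatedWittVector p m R :=
  TruncatedWittVector.mk p fun i => w.coeff ⟨n + i, by omega⟩

/-- Concatenation of components. -/
def concatG (a : TruncatedWittVector p n R) (b : TruncatedWittVector p m R) :
    TruncatedWittVector p (n + m) R :=
  TruncatedWittVector.mk p fun i =>
    if h : (i : ℕ) < n then a.coeff ⟨i, h⟩ else b.coeff ⟨i - n, by omega⟩

theorem coeff_tailG (w : TruncatedWittVector p (n + m) R) (i : Fin m) :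
    (tailG p w).coeff i = w.coeff ⟨n + i, by omega⟩ :=
  TruncatedWittVector.coeff_mk _ _

theorem coeff_concatG (a : TruncatedWittVector p n R) (b : TruncatedWittVector p m R)
    (i : Fin (n + m)) :
    (concatG p a b).coeff i =
      if h : (i : ℕ) < n then a.coeff ⟨i, h⟩ else b.coeff ⟨i - n, by omega⟩ :=
  TruncatedWittVector.coeff_mk _ _

theorem truncate_concatG (a : TruncatedWittVector p n R) (b : TruncatedWittVector p m R) :
    TruncatedWittVector.truncate (Nat.le_add_right n m) (concatG p a b) = a := by
  refine TruncatedWittVector.ext fun i => ?_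
  rw [TruncatedWittVector.coeff_truncate, coeff_concatG]
  have hi : ((Fin.castLE (Nat.le_add_right n m) i : Fin (n + m)) : ℕ) < n := by
    simp
  rw [dif_pos hi]
  rfl

theorem tailG_concatG (a : TruncatedWittVector p n R) (b : TruncatedWittVector p m R) :
    tailG p (concatG p a b) = b := by
  refine TruncatedWittVector.ext fun i => ?_
  rw [coeff_tailG, coeff_concatG]
  have hi : ¬ ((⟨n + i, by omega⟩ : Fin (n + m)) : ℕ) < n := by
    simp
  rw [dif_neg hi]
  congr 1
  ext
  simp

theorem concatG_truncate_tailG (w : TruncatedWittVector p (n + m) R) :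
    concatG p (TruncatedWittVector.truncate (Nat.le_add_right n m) w) (tailG p w) = w := by
  refine TruncatedWittVector.ext fun i => ?_
  rw [coeff_concatG]
  by_cases hi : (i : ℕ) < n
  · rw [dif_pos hi, TruncatedWittVector.coeff_truncate]
    congr 1
  · rw [dif_neg hi, coeff_tailG]
    congr 1
    ext
    simp only
    omega

theorem truncMap_tailG (f : R →+* R') (w : TruncatedWittVector p (n + m) R) :
    truncMap p m f (tailG p w) = tailG p (truncMap p (n + m) f w) := by
  refine TruncatedWittVector.ext fun i => ?_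
  simp only [coeff_truncMap, coeff_tailG]

theorem tailG_shift (x : TruncatedWittVector p m R) :
    tailG p (shift p (Nat.le_add_left m n) x) = x := by
  refine TruncatedWittVector.ext fun i => ?_
  rw [coeff_tailG, coeff_shift]
  have hi : n + m - m ≤ ((⟨n + i, by omega⟩ : Fin (n + m)) : ℕ) := by
    simp
  rw [dif_pos hi]
  congr 1
  ext
  simp

theorem truncate_shift_add (x : TruncatedWittVector p m R) :
    TruncatedWittVector.truncate (Nat.le_add_right n m) (shift p (Nat.le_add_left m n) x) = 0 := by
  refine TruncatedWittVector.ext fun i => ?_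
  rw [TruncatedWittVector.coeff_truncate, coeff_shift, TruncatedWittVector.coeff_zero]
  have hi : ¬ n + m - m ≤ ((Fin.castLE (Nat.le_add_right n m) i : Fin (n + m)) : ℕ) := by
    simp
  rw [dif_neg hi]

theorem shift_tailG_of_truncate_eq_zero (w : TruncatedWittVector p (n + m) R)
    (h : TruncatedWittVector.truncate (Nat.le_add_right n m) w = 0) :
    shift p (Nat.le_add_left m n) (tailG p w) = w := by
  refine TruncatedWittVector.ext fun i => ?_
  rw [coeff_shift]
  by_cases hi : n + m - m ≤ (i : ℕ)
  · rw [dif_pos hi, coeff_tailG]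
    congr 1
    ext
    simp only
    omega
  · rw [dif_neg hi]
    have hi' : (i : ℕ) < n := by omega
    have h2 := congrArg (fun w => w.coeff ⟨i, hi'⟩) h
    simp only [TruncatedWittVector.coeff_truncate, TruncatedWittVector.coeff_zero] at h2
    rw [← h2]
    congr 1

end RingLevel

section SchemeLevel

variable {n m : ℕ} {S : Scheme.{u}}

/-- The last `m` coordinates, as a morphism (not a homomorphism). -/
noncomputable def tailGM (S : Scheme.{u}) (n m : ℕ) : W p (n + m) S ⟶ W p m S :=
  mkPt p _ (tailG p (pts p (W p (n + m) S) (Additive.ofMul (𝟙 _))))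

theorem pts_tailGM {T : Over S} (x : T ⟶ W p (n + m) S) :
    pts p T (Additive.ofMul (x ≫ tailGM p S n m)) = tailG p (pts p T (Additive.ofMul x)) := by
  rw [pts_comp, tailGM, pts_mkPt, truncMap_tailG, ← pts_comp, Category.comp_id]

/-- The point of `W_{n+m}` with given first and second parts. -/
noncomputable def concatGM {T : Over S} (x : T ⟶ W p n S) (y : T ⟶ W p m S) :
    T ⟶ W p (n + m) S :=
  mkPt p T (concatG p (pts p T (Additive.ofMul x)) (pts p T (Additive.ofMul y)))

theorem concatGM_R {T : Over S} (x : T ⟶ W p n S) (y : T ⟶ W p m S) :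
    concatGM p x y ≫ R p S (Nat.le_add_right n m) = x := by
  apply pts_ext
  rw [pts_R, concatGM, pts_mkPt, truncate_concatG]

theorem concatGM_tailGM {T : Over S} (x : T ⟶ W p n S) (y : T ⟶ W p m S) :
    concatGM p x y ≫ tailGM p S n m = y := by
  apply pts_ext
  rw [pts_tailGM, concatGM, pts_mkPt, tailG_concatG]

theorem concatGM_eta {T : Over S} (c : T ⟶ W p (n + m) S) :
    concatGM p (c ≫ R p S (Nat.le_add_right n m)) (c ≫ tailGM p S n m) = c := by
  apply pts_ext
  rw [concatGM, pts_mkPt, pts_R, pts_tailGM, concatG_truncate_tailG]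

theorem hom_ext_R_tail {T : Over S} {c c' : T ⟶ W p (n + m) S}
    (h1 : c ≫ R p S (Nat.le_add_right n m) = c' ≫ R p S (Nat.le_add_right n m))
    (h2 : c ≫ tailGM p S n m = c' ≫ tailGM p S n m) : c = c' := by
  rw [← concatGM_eta p c, ← concatGM_eta p c', h1, h2]

theorem comp_concatGM {T T' : Over S} (g : T' ⟶ T) (x : T ⟶ W p n S) (y : T ⟶ W p m S) :
    g ≫ concatGM p x y = concatGM p (g ≫ x) (g ≫ y) := by
  apply hom_ext_R_tail
  · rw [Category.assoc, concatGM_R, concatGM_R]
  · rw [Category.assoc, concatGM_tailGM, concatGM_tailGM]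

theorem V_tailGM : V p S (Nat.le_add_left m n) ≫ tailGM p S n m = 𝟙 _ := by
  apply pts_ext
  rw [pts_tailGM, ← Category.id_comp (V p S (Nat.le_add_left m n)), pts_V, tailG_shift]

/-- `W_{n+m}` is the product of `W_n` and `W_m` in `Over S` (as schemes, not groups). -/
noncomputable def prodIso (S : Scheme.{u}) (n m : ℕ) : W p (n + m) S ≅ W p n S ⊗ W p m S where
  hom := lift (R p S (Nat.le_add_right n m)) (tailGM p S n m)
  inv := concatGM p (fst _ _) (snd _ _)
  hom_inv_id := by
    rw [comp_concatGM, lift_fst, lift_snd]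
    have := concatGM_eta p (𝟙 (W p (n + m) S))
    rwa [Category.id_comp, Category.id_comp] at this
  inv_hom_id := by
    rw [comp_lift, concatGM_R, concatGM_tailGM, lift_fst_snd]

attribute [-instance] ULift.module in
instance flat_affineSpace (σ : Type u) (S : Scheme.{u}) : Flat (𝔸(σ; S) ↘ S) :=
  MorphismProperty.pullback_fst _ _ <| by
  have := isIso_of_isTerminal specULiftZIsTerminal.{u} terminalIsTerminal (terminal.from _)
  rw [← terminal.comp_from (Spec.map (CommRingCat.ofHom MvPolynomial.C)),
    MorphismProperty.cancel_right_of_respectsIso (P := @Flat),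
    HasRingHomProperty.Spec_iff (P := @Flat), RingHom.Flat]
  convert! (inferInstance : Module.Flat (ULift ℤ) (MvPolynomial σ (ULift ℤ)))
  exact Module.ext' _ _ fun a x => MvPolynomial.C_mul'

theorem flat_W_hom (S : Scheme.{u}) (n : ℕ) : Flat (W p n S).hom :=
  flat_affineSpace (ULift.{u} (Fin n)) S

theorem flat_R (S : Scheme.{u}) (n m : ℕ) : Flat (R p S (Nat.le_add_right n m)).left := by
  have h : R p S (Nat.le_add_right n m) = (prodIso p S n m).hom ≫ fst _ _ := by
    rw [prodIso, lift_fst]
  have := flat_W_hom p S m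
  rw [h, Over.comp_left, Over.fst_left]
  have : IsIso (prodIso p S n m).hom.left :=
    ((Over.forget S).mapIso (prodIso p S n m)).isIso_hom
  infer_instance

theorem surjective_R (S : Scheme.{u}) {n m : ℕ} (h : n ≤ m) : Surjective (R p S h).left := by
  have h1 : (pad p S h).left ≫ (R p S h).left = 𝟙 _ := by
    rw [← Over.comp_left, pad_R, Over.id_left]
  constructor
  intro x
  refine ⟨(pad p S h).left x, ?_⟩
  rw [← Scheme.Hom.comp_apply, h1]
  rfl

theorem isClosedImmersion_V (S : Scheme.{u}) (n m : ℕ) :
    IsClosedImmersion (V p S (Nat.le_add_left m n)).left := by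
  have h1 : (V p S (Nat.le_add_left m n)).left ≫ (tailGM p S n m).left = 𝟙 _ := by
    rw [← Over.comp_left, V_tailGM, Over.id_left]
  have h2 : IsSeparated (tailGM p S n m).left := by
    have h3 : (tailGM p S n m).left ≫ (W p m S).hom = (W p (n + m) S).hom := Over.w _
    have : IsSeparated ((tailGM p S n m).left ≫ (W p m S).hom) := by
      rw [h3]
      change IsSeparated (𝔸(ULift.{u} (Fin (n + m)); S) ↘ S)
      infer_instance
    exact IsSeparated.of_comp _ (W p m S).hom
  have : IsClosedImmersion ((V p S (Nat.le_add_left m n)).left ≫ (tailGM p S n m).left) := by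
    rw [h1]
    infer_instance
  exact IsClosedImmersion.of_comp _ (tailGM p S n m).left

theorem isKernel_V_R (S : Scheme.{u}) (n m : ℕ) :
    AlgGrp.IsKernel (V p S (Nat.le_add_left m n)) (R p S (Nat.le_add_right n m)) := by
  have w : V p S (Nat.le_add_left m n) ≫ R p S (Nat.le_add_right n m) =
      toUnit _ ≫ η[W p n S] := by
    rw [← Hom.one_def]
    apply pts_ext
    rw [pts_R, ← Category.id_comp (V p S (Nat.le_add_left m n)), pts_V, truncate_shift_add,
      pts_one]
  refine ⟨⟨w⟩, ⟨PullbackCone.IsLimit.mk _ (fun s => s.fst ≫ tailGM p S n m) ?_ ?_ ?_⟩⟩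
  · intro s
    have hc := s.condition
    rw [toUnit_unique s.snd (toUnit _), ← Hom.one_def] at hc
    apply pts_ext
    rw [pts_V, pts_tailGM]
    apply shift_tailG_of_truncate_eq_zero
    rw [← pts_R, hc, pts_one]
  · intro s
    exact toUnit_unique _ _
  · intro s l h1 _
    rw [← h1, Category.assoc, V_tailGM, Category.comp_id]

end SchemeLevel

end Groth.Agent.Lib.Helper6.Witt
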